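import Mathlib
import Cfsg.Agent.OddHalf.D4.Spor.FiTF_m3
import Cfsg.Agent.KFacts.FiTF.RQ
import Cfsg.Agent.KFacts.FiTF.FixZ_m3
import Cfsg.Agent.R08.NoFpf
import Cfsg.Agent.FastGrp
import Cfsg.Agent.Prune
set_option linter.all false
prune_inst 0x7f00000000000000000000000000000000000000000000000000000000000000000000000000000000000000000000000000000000000000000000000000000000000000000000000000000000000000003fffffffffffffffffffffffffffbeffbdffffffff
open scoped Cfsg.Agent.FastGrp

-- part: H833/PathFive
section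
/-!
# The product of the members of a path of 3-transpositions has order five

Copy of `LThreeFi24.Path.pow_five` (without its import closure).
-/

set_option autoImplicit false

namespace Cfsg.Agent.H833.PathFive

variable {G : Type*} [Group G]

theorem pow_five {a b c d : G} (ha : a * a = 1) (hb : b * b = 1) (hc : c * c = 1) (hd : d * d = 1)
    (hab : a * b * a = b * a * b) (hbc : b * c * b = c * b * c) (hcd : c * d * c = d * c * d)
    (hac : a * c = c * a) (had : a * d = d * a) (hbd : b * d = d * b) : (a * b * c * d) ^ 5 = 1 := by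
  have ia : a⁻¹ = a := inv_eq_of_mul_eq_one_left ha
  have ib : b⁻¹ = b := inv_eq_of_mul_eq_one_left hb
  have ic : c⁻¹ = c := inv_eq_of_mul_eq_one_left hc
  have id' : d⁻¹ = d := inv_eq_of_mul_eq_one_left hd
  have xa : ∀ x : G, a * (a * x) = x := fun x => by rw [← mul_assoc, ha, one_mul]
  have xb : ∀ x : G, b * (b * x) = x := fun x => by rw [← mul_assoc, hb, one_mul]
  have xc : ∀ x : G, c * (c * x) = x := fun x => by rw [← mul_assoc, hc, one_mul]
  have xd : ∀ x : G, d * (d * x) = x := fun x => by rw [← mul_assoc, hd, one_mul]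
  have yab : ∀ x : G, a * (b * (a * x)) = b * (a * (b * x)) := fun x => by
    simpa only [mul_assoc] using congrArg (· * x) hab
  have ybc : ∀ x : G, b * (c * (b * x)) = c * (b * (c * x)) := fun x => by
    simpa only [mul_assoc] using congrArg (· * x) hbc
  have ycd : ∀ x : G, c * (d * (c * x)) = d * (c * (d * x)) := fun x => by
    simpa only [mul_assoc] using congrArg (· * x) hcd
  have zac : ∀ x : G, a * (c * x) = c * (a * x) := fun x => by
    simpa only [mul_assoc] using congrArg (· * x) hac
  have zad : ∀ x : G, a * (d * x) = d * (a * x) := fun x => by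
    simpa only [mul_assoc] using congrArg (· * x) had
  have zbd : ∀ x : G, b * (d * x) = d * (b * x) := fun x => by
    simpa only [mul_assoc] using congrArg (· * x) hbd
  set g := a * b * c * d with hg
  -- conjugation by `g`
  have ga : g * a = b * g := by
    rw [hg]; simp only [mul_assoc]
    rw [← had, ← zac, yab]
  have gb : g * b = c * g := by
    rw [hg]; simp only [mul_assoc]
    rw [← hbd, ybc, zac]
  have gc : g * c = d * g := by
    rw [hg]; simp only [mul_assoc]
    have h1 : c * (d * c) = d * (c * d) := by simpa only [mul_assoc] using hcd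
    rw [h1, zbd, zad]
  -- `e = (1 5)`
  set e := a * b * c * d * c * b * a with he
  have gd : g * d = e * g := by
    rw [hg, he]; simp only [mul_assoc]
    rw [xa, xb, xc]
  have e2 : e * e = 1 := by
    rw [he]; simp only [mul_assoc]
    rw [xa, xb, xc, xd, xc, xb, ha]
  have he' : e = d * c * b * a * b * c * d := by
    have h1 : a * b * d = d * a * b := by rw [mul_assoc, hbd, ← mul_assoc, had]
    have h2 : d * b * a = b * a * d := by rw [← hbd, mul_assoc, ← had, mul_assoc]
    calc e = a * b * (c * d * c) * b * a := by rw [he]; simp only [mul_assoc]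
      _ = (a * b * d) * c * (d * b * a) := by rw [hcd]; simp only [mul_assoc]
      _ = d * (a * (b * c * b) * a) * d := by rw [h1, h2]; simp only [mul_assoc]
      _ = d * ((a * c) * b * (c * a)) * d := by rw [hbc]; simp only [mul_assoc]
      _ = d * (c * (a * b * a) * c) * d := by rw [← hac]; nth_rewrite 1 [hac]; simp only [mul_assoc]
      _ = d * c * b * a * b * c * d := by rw [hab]; simp only [mul_assoc]
  have ge : g * e = a * g := by
    rw [he', hg]; simp only [mul_assoc]
    rw [xd, xc, xb, ]
  have hge1 : g = b * c * d * e := by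
    have h1 : g * g = (b * c * d * e) * g := by
      calc g * g = g * (a * b * c * d) := by rw [← hg]
        _ = (g * a) * b * c * d := by simp only [mul_assoc]
        _ = b * (g * b) * c * d := by rw [ga]; simp only [mul_assoc]
        _ = b * c * (g * c) * d := by rw [gb]; simp only [mul_assoc]
        _ = b * c * d * (g * d) := by rw [gc]; simp only [mul_assoc]
        _ = (b * c * d * e) * g := by rw [gd]; simp only [mul_assoc]
    exact mul_right_cancel h1
  have step : ∀ x y z w x' y' z' w' : G, g * x = x' * g → g * y = y' * g → g * z = z' * g → g * w = w' * g →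
      g = x * y * z * w → g = x' * y' * z' * w' := by
    intro x y z w x' y' z' w' h1 h2 h3 h4 h5
    have h6 : g * g = (x' * y' * z' * w') * g := by
      calc g * g = g * (x * y * z * w) := by rw [← h5]
        _ = (g * x) * y * z * w := by simp only [mul_assoc]
        _ = x' * (g * y) * z * w := by rw [h1]; simp only [mul_assoc]
        _ = x' * y' * (g * z) * w := by rw [h2]; simp only [mul_assoc]
        _ = x' * y' * z' * (g * w) := by rw [h3]; simp only [mul_assoc]
        _ = (x' * y' * z' * w') * g := by rw [h4]; simp only [mul_assoc]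
    exact mul_right_cancel h6
  have g2 : g = c * d * e * a := step _ _ _ _ _ _ _ _ gb gc gd ge hge1
  have g3 : g = d * e * a * b := step _ _ _ _ _ _ _ _ gc gd ge ga g2
  have g4 : g = e * a * b * c := step _ _ _ _ _ _ _ _ gd ge ga gb g3
  -- commuting pairs with `e`
  have pair : ∀ x y x' y' : G, g * x = x' * g → g * y = y' * g → x * y = y * x → x' * y' = y' * x' := by
    intro x y x' y' h1 h2 h3
    have h4 : (x' * y') * g = (y' * x') * g := by
      calc (x' * y') * g = x' * (y' * g) := mul_assoc _ _ _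
        _ = x' * (g * y) := by rw [h2]
        _ = (x' * g) * y := (mul_assoc _ _ _).symm
        _ = (g * x) * y := by rw [h1]
        _ = g * (x * y) := mul_assoc _ _ _
        _ = g * (y * x) := by rw [h3]
        _ = (g * y) * x := (mul_assoc _ _ _).symm
        _ = (y' * g) * x := by rw [h2]
        _ = y' * (g * x) := mul_assoc _ _ _
        _ = y' * (x' * g) := by rw [h1]
        _ = (y' * x') * g := (mul_assoc _ _ _).symm
    exact mul_right_cancel h4
  have hbe : b * e = e * b := pair a d b e ga gd had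
  have hce : c * e = e * c := pair b d c e gb gd hbd
  have xe : ∀ x : G, e * (e * x) = x := fun x => by rw [← mul_assoc, e2, one_mul]
  have zce : ∀ x : G, c * (e * x) = e * (c * x) := fun x => by
    simpa only [mul_assoc] using congrArg (· * x) hce
  have zbe : ∀ x : G, b * (e * x) = e * (b * x) := fun x => by
    simpa only [mul_assoc] using congrArg (· * x) hbe
  calc g ^ 5 = g * g * g * g * g := by simp only [pow_succ, pow_zero, one_mul]
    _ = (a * b * c * d) * (d * e * a * b) * (b * c * d * e) * (e * a * b * c) * (c * d * e * a) := by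
        rw [← hge1, ← g2, ← g3, ← g4, ← hg]
    _ = 1 := by
        simp only [mul_assoc]
        rw [xd, xb, xe, xc]
        -- `a b c e a c d a b d e a`
        rw [zac, zce, xc]
        -- `a b e a d a b d e a`
        rw [zad, xa, zbd, xd, zbe, xb, xe, ha]

theorem ne_one {a b c d : G} (ha : a * a = 1) (hab : ¬ Commute a b) (hac : Commute a c) (had : Commute a d) :
    a * b * c * d ≠ 1 := by
  intro h
  apply hab
  have h1 : b = a⁻¹ * (c * d)⁻¹ := by
    have h2 : a * b * (c * d) = 1 := by rw [← h]; group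
    have h3 : a * b = (c * d)⁻¹ := eq_inv_of_mul_eq_one_left h2
    rw [← h3]; group
  rw [h1]
  have h2 : Commute a (c * d)⁻¹ := (hac.mul_right had).inv_right
  exact ((Commute.refl a).inv_right).mul_right h2


end Cfsg.Agent.H833.PathFive
end

-- part: H833/Out24
section
/-!
# The class of 3-transpositions of `Fi24` is unique (helper833)

The first part (`exists_theta` .. `outer_cases`) is a copy of the section `CpAutFi24.OutInv` of
`CpAut/TwoAll.lean`, with a small import closure.

* `outer_cases` : an involution of `Fi24` outside `Fi24'` is a transposition or the product of three different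
  commuting transpositions;
* `class_unique` : a class of 3-transpositions generating `Fi24` is the class `L`.
-/

set_option autoImplicit false
set_option linter.unusedVariables false

namespace Cfsg.Agent.H833.Out24

open Cfsg Cfsg.Agent.R01
open Cfsg.Agent.R08.TetBasic Cfsg.Agent.R08.TetTwo Cfsg.Agent.R08.TetThree Cfsg.Agent.R08.TetPair

section Gen

variable {F P : Type*} [Group F] [Group P] {L : Set F} {F0 : Subgroup F} {T : Set P}

/-- The automorphism of `P` induced by an involution `t` (normalising `F0`) which interchanges `a` and `b`. -/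
theorem exists_theta (h : Pre L F0 T) {a b t : F} (ha : a ∈ L) (hb : b ∈ L) (hne : a ≠ b)
    (hab : Commute a b) (ht : ∀ x ∈ F0, t * x * t ∈ F0) (htt : t * t = 1) (hta : t * a * t = b) :
    ∃ (π : F → P) (θ : P ≃* P), Pi L F0 T a b π ∧ (∀ p, θ (θ p) = p) ∧
      ∀ x, InQ F0 a b x → InQ F0 a b (t * x * t) ∧ θ (π x) = π (t * x * t) := by
  obtain ⟨π, hP⟩ := h.exists_pi ha hb hne hab
  have tt : ∀ c : F, t * (t * c * t) * t = c := by
    intro c
    calc t * (t * c * t) * t = (t * t) * c * (t * t) := by group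
      _ = c := by rw [htt, one_mul, mul_one]
  have tm : ∀ c d : F, t * (c * d) * t = t * c * t * (t * d * t) := by
    intro c d
    calc t * (c * d) * t = t * c * 1 * d * t := by group
      _ = t * c * (t * t) * d * t := by rw [htt]
      _ = t * c * t * (t * d * t) := by group
  have htb : t * b * t = a := by rw [← hta, tt]
  have tc : ∀ c d : F, Commute c d → Commute (t * c * t) (t * d * t) := by
    intro c d hcd
    show _ = _
    rw [← tm, ← tm, hcd.eq]
  have hq : ∀ x, InQ F0 a b x → InQ F0 a b (t * x * t) := by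
    intro x hx
    refine ⟨ht x hx.f0, ?_, ?_⟩
    · have := tc x b hx.cb; rwa [htb] at this
    · have := tc x a hx.ca; rwa [hta] at this
  have tab : t * (a * b) * t = a * b := by rw [tm, hta, htb, hab.eq]
  choose s hs1 hs2 using hP.surj
  have qab : InQ F0 a b (a * b) := h.inQ ha hb hab hab.symm (Commute.refl b)
  -- well defined
  have key : ∀ x, InQ F0 a b x → π (t * s (π x) * t) = π (t * x * t) := by
    intro x hx
    rcases hP.eq_or (hs1 (π x)) hx (hs2 (π x)) with h1 | h1
    · rw [h1]
    · rw [h1, tm, tab, hP.mul _ (hq x hx) _ qab, hP.ab, mul_one]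
  have inv : ∀ p, π (t * s (π (t * s p * t)) * t) = p := by
    intro p
    rw [key _ (hq _ (hs1 p)), tt, hs2]
  refine ⟨π,
    { toFun := fun p => π (t * s p * t)
      invFun := fun p => π (t * s p * t)
      left_inv := inv
      right_inv := inv
      map_mul' := fun p q => by
        have h1 : π (s p * s q) = p * q := by rw [hP.mul _ (hs1 p) _ (hs1 q), hs2, hs2]
        rw [← h1, key _ ((hs1 p).mul (hs1 q)), tm, hP.mul _ (hq _ (hs1 p)) _ (hq _ (hs1 q))] },
    hP, inv, ?_⟩
  intro x hx
  exact ⟨hq x hx, key x hx⟩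

/-- An involution normalising `F0` commutes with some member of `L`. -/
theorem exists_commute (h : Pre L F0 T)
    (hFf : ∀ θ : P ≃* P, (∀ x, θ (θ x) = x) → ¬ ∀ d ∈ T, θ d ∈ T ∧ θ d ≠ d ∧ θ d * d = d * θ d)
    {t : F} (ht : ∀ x ∈ F0, t * x * t ∈ F0) (htt : t * t = 1) : ∃ f ∈ L, Commute t f := by
  by_contra hcon
  push Not at hcon
  have hti : t⁻¹ = t := inv_eq_of_mul_eq_one_left htt
  have tt : ∀ c : F, t * (t * c * t) * t = c := by
    intro c
    calc t * (t * c * t) * t = (t * t) * c * (t * t) := by group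
      _ = c := by rw [htt, one_mul, mul_one]
  have tm : ∀ c d : F, t * (c * d) * t = t * c * t * (t * d * t) := by
    intro c d
    calc t * (c * d) * t = t * c * 1 * d * t := by group
      _ = t * c * (t * t) * d * t := by rw [htt]
      _ = t * c * t * (t * d * t) := by group
  have tL : ∀ c ∈ L, t * c * t ∈ L := by
    intro c hc
    have := h.conj t c hc
    rwa [hti] at this
  have fix : ∀ f ∈ L, t * f * t ≠ f := by
    intro f hf h1
    apply hcon f hf
    show t * f = f * t
    calc t * f = t * f * (t * t) := by rw [htt, mul_one]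
      _ = t * f * t * t := by group
      _ = f * t := by rw [h1]
  have com : ∀ c ∈ L, Commute (t * c * t) c := by
    intro c hc
    rcases h.three c hc (t * c * t) (tL c hc) with h1 | h1
    · exact h1.symm
    · exfalso
      have h2 : c * (t * c * t) * c ∈ L := by
        have := h.conj c (t * c * t) (tL c hc)
        rwa [inv_eq_of_mul_eq_one_left (h.sq c hc)] at this
      apply fix _ h2
      rw [tm, tm, tt]
      exact h1.symm
  obtain ⟨a, ha⟩ := h.ne
  obtain ⟨π, θ, hP, hθ, hθπ⟩ := exists_theta h ha (tL a ha) (fix a ha).symm (com a ha).symm ht htt rfl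
  apply hFf θ hθ
  intro d hd
  obtain ⟨c, hc, n1, n2, c1, c2, rfl⟩ := hP.lift d hd
  have q1 := h.inQ ha hc (com a ha).symm c1 c2
  have k1 : t * c * t ≠ a := by
    intro h1
    apply n2
    rw [← h1, tt]
  have k2 : t * c * t ≠ t * a * t := by
    intro h1
    apply n1
    exact mul_left_cancel (mul_right_cancel h1)
  have c3 : Commute (t * c * t) (t * a * t) := by
    show _ = _
    rw [← tm, ← tm, c1.eq]
  have c4 : Commute (t * c * t) a := by
    have : Commute (t * c * t) (t * (t * a * t) * t) := by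
      show _ = _
      rw [← tm, ← tm, c2.eq]
    rwa [tt] at this
  have q2 := h.inQ ha (tL c hc) (com a ha).symm c4 c3
  have q3 := h.inQ ha (tL a ha) (com a ha).symm (com a ha) (Commute.refl _)
  have e1 : θ (π (a * c)) = π (a * (t * c * t)) := by
    rw [(hθπ _ q1).2, tm]
    have e2 : t * a * t * (t * c * t) = a * (t * a * t) * (a * (t * c * t)) := by
      rw [mul_mul (h.sq a ha) (com a ha)]
    rw [e2, hP.mul _ q3 _ q2, hP.ab, one_mul]
  rw [e1]
  refine ⟨hP.map _ (tL c hc) k1 k2 c4 c3, ?_, ?_⟩
  · intro h1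
    exact fix c hc (hP.inj _ (tL c hc) k1 k2 c4 c3 c hc n1 n2 c1 c2 h1)
  · rw [← hP.mul _ q2 _ q1, ← hP.mul _ q1 _ q2, mul_mul (h.sq a ha) c4, mul_mul (h.sq a ha) c1,
      (com c hc).eq]

end Gen

open Cfsg.Agent.R08 Cfsg.Agent.R08.FiTwentyFour
open Cfsg.Spor (Fi24)
open Cfsg.Agent.KFacts.FiTF.Defs (z Dz)

/-- an involution of `Fi24` commutes with a transposition -/
theorem exists_comm {t : Fi24} (htt : t * t = 1) : ∃ f ∈ L, Commute t f := by
  refine exists_commute TetFi24B.pre (fun θ h2 hall =>
    NoFpf.fi22_no_fpf θ (fun t ht => (hall t ht).1) h2 (fun t ht => (hall t ht).2.1)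
      (fun t ht => (hall t ht).2.2)) (fun x hx => ?_) htt
  have h1 := (inferInstance : (commutator Fi24).Normal).conj_mem x hx t
  rwa [inv_eq_of_mul_eq_one_left htt] at h1

/-- a transposition commuting with `z` is a member of a tetrad of `z` -/
theorem exists_tet_z {f : Fi24} (hf : f ∈ L) (hfz : Commute f z) : ∃ b c d, IsTet L z f b c d := by
  obtain ⟨w, hw, hwf⟩ := KFacts.FiTF.FixZ.tran f ⟨hf, hfz.eq⟩
  have hwz : Commute w z := by
    have h1 : Subgroup.closure ({KFacts.FiTF.Defs.D 0 0, KFacts.FiTF.Defs.D 0 1, KFacts.FiTF.Defs.D 1 0,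
        KFacts.FiTF.Defs.D 2 0, KFacts.FiTF.Defs.D 3 0, KFacts.FiTF.Defs.D 4 0, KFacts.FiTF.Defs.D 5 0} : Set Fi24) ≤
        Subgroup.centralizer {z} := by
      rw [Subgroup.closure_le]
      intro x hx
      have h2 : ∀ t < 6, ∀ i < 4, KFacts.FiTF.Defs.D t i ∈ Subgroup.centralizer ({z} : Set Fi24) := by
        intro t ht i hi
        rw [Subgroup.mem_centralizer_singleton_iff]
        exact (KFacts.FiTF.Tet.z_D ht hi).symm
      simp only [Set.mem_insert_iff, Set.mem_singleton_iff] at hx
      rcases hx with rfl | rfl | rfl | rfl | rfl | rfl | rfl <;> apply h2 <;> norm_num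
    exact Subgroup.mem_centralizer_singleton_iff.1 (h1 hw)
  have h3 := KFacts.FiTF.Tet.isTet (t := 0) (by norm_num)
  have h4 := h3.conj TetFi24A.tr hwz
  rw [KFacts.FiTF.RQ.D00, hwf] at h4
  exact ⟨_, _, _, h4⟩

/-- a transposition commuting with the product of a tetrad is a member of a tetrad with the same product -/
theorem exists_tet {s a b c d f : Fi24} (h : IsTet L s a b c d) (hf : f ∈ L) (hfs : Commute f s) :
    ∃ b' c' d', IsTet L s f b' c' d' := by
  have h3 := KFacts.FiTF.Tet.isTet (t := 0) (by norm_num)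
  obtain ⟨g, hg, e1, e2, e3, e4⟩ := TetBig.quad TetBigInst.hyp h h3
  -- `g` conjugates `s` to `z`
  have hs : g * s * g⁻¹ = z := by
    rw [← h3.prod, ← h.prod, TetBig.conj_mul, TetBig.conj_mul, TetBig.conj_mul, e1, e2, e3, e4]
  have hfz : Commute (g * f * g⁻¹) z := by
    rw [← hs]
    show g * f * g⁻¹ * (g * s * g⁻¹) = g * s * g⁻¹ * (g * f * g⁻¹)
    calc g * f * g⁻¹ * (g * s * g⁻¹) = g * (f * s) * g⁻¹ := by group
      _ = g * (s * f) * g⁻¹ := by rw [hfs.eq]
      _ = _ := by group
  obtain ⟨b1, c1, d1, k⟩ := exists_tet_z (FiTwentyFour.conj hf g) hfz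
  have inj : ∀ x y : Fi24, g⁻¹ * x * g = g⁻¹ * y * g → x = y := fun x y e =>
    mul_left_cancel (mul_right_cancel e)
  have cm : ∀ x y : Fi24, Commute x y → Commute (g⁻¹ * x * g) (g⁻¹ * y * g) := by
    intro x y e
    show g⁻¹ * x * g * (g⁻¹ * y * g) = g⁻¹ * y * g * (g⁻¹ * x * g)
    calc g⁻¹ * x * g * (g⁻¹ * y * g) = g⁻¹ * (x * y) * g := by group
      _ = g⁻¹ * (y * x) * g := by rw [e.eq]
      _ = _ := by group
  have mm : ∀ x ∈ L, g⁻¹ * x * g ∈ L := by
    intro x hx
    have := FiTwentyFour.conj hx g⁻¹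
    rwa [inv_inv] at this
  have ef : g⁻¹ * (g * f * g⁻¹) * g = f := by group
  have es : g⁻¹ * z * g = s := by rw [← hs]; group
  refine ⟨g⁻¹ * b1 * g, g⁻¹ * c1 * g, g⁻¹ * d1 * g, ?_⟩
  have k1 := k
  obtain ⟨m1, m2, m3, m4, c12, c13, c14, c23, c24, c34, n12, n13, n14, n23, n24, n34, hp⟩ := k1
  refine ⟨hf, mm _ m2, mm _ m3, mm _ m4, ?_, ?_, ?_, cm _ _ c23, cm _ _ c24, cm _ _ c34, ?_, ?_, ?_,
    fun e => n23 (inj _ _ e), fun e => n24 (inj _ _ e), fun e => n34 (inj _ _ e), ?_⟩
  · have := cm _ _ c12; rwa [ef] at this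
  · have := cm _ _ c13; rwa [ef] at this
  · have := cm _ _ c14; rwa [ef] at this
  · intro e; apply n12; apply inj; rw [ef]; exact e
  · intro e; apply n13; apply inj; rw [ef]; exact e
  · intro e; apply n14; apply inj; rw [ef]; exact e
  · rw [← es, ← hp]; group

/-- three different commuting transpositions -/
structure Tri3 (a b c : Fi24) : Prop where
  ha : a ∈ L
  hb : b ∈ L
  hc : c ∈ L
  ab : Commute a b
  ac : Commute a c
  bc : Commute b c
  nab : a ≠ b
  nac : a ≠ c
  nbc : b ≠ c

/-- **the involutions outside `Fi24'`** -/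
theorem outer_cases {t : Fi24} (ht : t ∉ commutator Fi24) (htt : t * t = 1) :
    t ∈ L ∨ ∃ a b c, Tri3 a b c ∧ t = a * b * c := by
  obtain ⟨f, hf, hc⟩ := exists_comm htt
  have hT := TetFi24A.tr
  have h1 : t * f ∈ commutator Fi24 := by
    rw [Subgroup.mul_mem_iff_of_index_two index_commutator]
    exact ⟨fun h => absurd h ht, fun h => absurd h (FiTwentyFour.odd hf)⟩
  have h2 : t * f * (t * f) = 1 := by
    calc t * f * (t * f) = t * (f * t) * f := by group
      _ = t * (t * f) * f := by rw [hc.eq]
      _ = (t * t) * (f * f) := by group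
      _ = 1 := by rw [htt, hT.sq f hf, mul_one]
  by_cases h3 : t * f = 1
  · left
    have : t = f := by rw [eq_inv_of_mul_eq_one_left h3, hT.inv hf]
    rwa [this]
  have hcf : Commute f (t * f) := hc.symm.mul_right (Commute.refl f)
  have et : t = t * f * f := (hT.cancel' hf t).symm
  rcases OddHalf.D4.Spor.FiTF.facts.invol _ h1 h2 h3 with ⟨x, hx, y, hy, nxy, cxy, e⟩ | ⟨x, y, u, v, h4⟩
  · rw [e] at hcf
    obtain ⟨fx, fy⟩ := comm_of_comm_mul hT hx hy hf cxy nxy hcf
    rw [e] at et
    by_cases n1 : x = f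
    · subst n1
      left
      have : t = y := by rw [et, cxy.eq, hT.cancel' hx]
      rwa [this]
    by_cases n2 : y = f
    · subst n2
      left
      have : t = x := by rw [et, hT.cancel' hy]
      rwa [this]
    right
    exact ⟨x, y, f, ⟨hx, hy, hf, cxy, fx.symm, fy.symm, nxy, n1, n2⟩, et⟩
  · right
    obtain ⟨b, c, d, h5⟩ := exists_tet h4 hf hcf
    obtain ⟨m1, m2, m3, m4, c12, c13, c14, c23, c24, c34, n12, n13, n14, n23, n24, n34, hp⟩ := h5
    refine ⟨b, c, d, ⟨m2, m3, m4, c23, c24, c34, n23, n24, n34⟩, ?_⟩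
    rw [et, ← hp]
    have c5 : Commute f (b * c * d) := (c12.mul_right c13).mul_right c14
    calc f * b * c * d * f = f * (b * c * d) * f := by group
      _ = (b * c * d) * f * f := by rw [c5.eq]
      _ = b * c * d := hT.cancel' hf _


/-! ### Uniqueness of the class -/

section path

open Cfsg.Agent.R08.TetBasic

variable {F : Type*} [Group F] {L : Set F}

theorem pow_five {a b c d : F} (ha : a * a = 1) (hb : b * b = 1) (hc : c * c = 1) (hd : d * d = 1)
    (hab : a * b * a = b * a * b) (hbc : b * c * b = c * b * c) (hcd : c * d * c = d * c * d)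
    (hac : a * c = c * a) (had : a * d = d * a) (hbd : b * d = d * b) : (a * c * (b * d)) ^ 5 = 1 := by
  have ia : a⁻¹ = a := inv_eq_of_mul_eq_one_left ha
  have ib : b⁻¹ = b := inv_eq_of_mul_eq_one_left hb
  have ic : c⁻¹ = c := inv_eq_of_mul_eq_one_left hc
  have id' : d⁻¹ = d := inv_eq_of_mul_eq_one_left hd
  have h1 := Cfsg.Agent.H833.PathFive.pow_five ha hb hc hd hab hbc hcd hac had hbd
  have h2 : a * c * (b * d) = (a * d) * (a * b * c * d)⁻¹ * (a * d)⁻¹ := by
    simp only [mul_inv_rev, ia, ib, ic, id']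
    calc a * c * (b * d) = a * c * b * (a * a) * d := by rw [ha]; group
      _ = a * c * b * a * (a * d) := by group
      _ = a * c * b * a * (d * a) := by rw [had]
      _ = a * (d * d) * c * b * a * (d * a) := by rw [hd]; group
      _ = a * d * (d * (c * (b * a))) * (d * a) := by group
  rw [h2, conj_pow, inv_pow, h1]
  group

/-- On a path `x₁ - x₂ - x₃ - x₄` the product of `x₁ x₃` and `x₂ x₄` has order five. -/
theorem path_not (h : Tr L) {a b c d : F} (ha : a ∈ L) (hb : b ∈ L) (hc : c ∈ L) (hd : d ∈ L)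
    (hab : ¬ Commute a b) (hbc : ¬ Commute b c) (hcd : ¬ Commute c d) (hac : Commute a c)
    (had : Commute a d) (hbd : Commute b d) :
    ¬ ((a * c * (b * d)) ^ 2 = 1 ∨ (a * c * (b * d)) ^ 3 = 1) := by
  intro hcon
  have h5 := pow_five (h.sq a ha) (h.sq b hb) (h.sq c hc) (h.sq d hd) (h.braid ha hb hab)
    (h.braid hb hc hbc) (h.braid hc hd hcd) hac.eq had.eq hbd.eq
  have h1 : a * c * (b * d) = 1 := by
    rcases hcon with h2 | h3
    · calc a * c * (b * d) = (a * c * (b * d)) ^ 5 * ((a * c * (b * d)) ^ 2)⁻¹ * ((a * c * (b * d)) ^ 2)⁻¹ := by group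
        _ = 1 := by rw [h5, h2]; group
    · calc a * c * (b * d) = (a * c * (b * d)) ^ 3 * (a * c * (b * d)) ^ 3 * ((a * c * (b * d)) ^ 5)⁻¹ := by group
        _ = 1 := by rw [h5, h3]; group
  have h2 : a * c = (b * d)⁻¹ := eq_inv_of_mul_eq_one_left h1
  have h3 : (b * d)⁻¹ = b * d := by
    rw [mul_inv_rev, h.inv hb, h.inv hd, hbd.eq]
  have h4 : Commute a (b * d) := by
    rw [← h3, ← h2]
    exact (Commute.refl a).mul_right hac
  have hne : b ≠ d := by
    rintro rfl
    exact hab had
  exact hab (comm_of_comm_mul h hb hd ha hbd hne h4).1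

end path

open Cfsg.Agent.R08.TetBig (conj_mul conj_ne conj_comm)

/-- Transitivity on ordered triples of commuting transpositions. -/
theorem Tri3.exists_conj {a b c a' b' c' : Fi24} (h : Tri3 a b c) (h' : Tri3 a' b' c') :
    ∃ g : Fi24, g * (a * b * c) * g⁻¹ = a' * b' * c' := by
  have H := TetBigInst.hyp
  -- a fourth transposition
  have ex4 : ∀ {a b c : Fi24}, Tri3 a b c → ∃ d ∈ L, d ≠ a ∧ d ≠ b ∧ d ≠ c ∧ Commute d a ∧ Commute d b ∧ Commute d c := by
    intro a b c h
    have h1 := H.n3 a h.ha b h.hb c h.hc h.nab h.nac h.nbc h.ab h.ac h.bc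
    have h2 : {d | d ∈ L ∧ d ≠ a ∧ d ≠ b ∧ d ≠ c ∧ Commute d a ∧ Commute d b ∧ Commute d c}.Nonempty := by
      apply Set.nonempty_of_ncard_ne_zero
      rw [h1]
      norm_num
    obtain ⟨d, hd⟩ := h2
    exact ⟨d, hd⟩
  obtain ⟨d, hd, d1, d2, d3, d4, d5, d6⟩ := ex4 h
  obtain ⟨d', hd', e1, e2, e3, e4, e5, e6⟩ := ex4 h'
  have t1 : R08.TetTwo.IsTet L (a * b * c * d) a b c d :=
    ⟨h.ha, h.hb, h.hc, hd, h.ab, h.ac, d4.symm, h.bc, d5.symm, d6.symm, h.nab, h.nac, d1.symm, h.nbc, d2.symm,
      d3.symm, rfl⟩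
  have t2 : R08.TetTwo.IsTet L (a' * b' * c' * d') a' b' c' d' :=
    ⟨h'.ha, h'.hb, h'.hc, hd', h'.ab, h'.ac, e4.symm, h'.bc, e5.symm, e6.symm, h'.nab, h'.nac, e1.symm, h'.nbc,
      e2.symm, e3.symm, rfl⟩
  obtain ⟨g, -, g1, g2, g3, -⟩ := TetBig.quad H t1 t2
  exact ⟨g, by rw [TetBig.conj_mul, TetBig.conj_mul, g1, g2, g3]⟩

open Cfsg.Spor (coxLabel)
open Cfsg.Agent.Fischer.Fi24Class (gen gen_sq gen_rel)
open Cfsg.Spor.Fi24 (Gen edges)

/-- Commuting generators. -/
theorem gen_commute {x y : Gen} (h : coxLabel edges x y = 2) : Commute (gen x) (gen y) :=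
  Cfsg.Agent.Fischer.Fi24Class.gen_comm x y h

theorem ne_gen {x y : Gen} (h : KFacts.FiTF.FixMask.pn x ≠ KFacts.FiTF.FixMask.pn y) : gen x ≠ gen y := by
  intro e
  have h1 : KFacts.FiTF.Pts.IsPt (gen x) (KFacts.FiTF.FixMask.pn x) := KFacts.FiTF.FixMask.isPt_gen x
  have h2 : KFacts.FiTF.Pts.IsPt (gen y) (KFacts.FiTF.FixMask.pn y) := KFacts.FiTF.FixMask.isPt_gen y
  rw [e] at h1
  exact h (h1.uniq h2)

theorem gen_not_commute {x y : Gen} (h : coxLabel edges x y = 3)
    (hne : KFacts.FiTF.FixMask.pn x ≠ KFacts.FiTF.FixMask.pn y) : ¬ Commute (gen x) (gen y) := by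
  intro hc
  apply ne_gen hne
  have h1 := gen_rel x y
  rw [h, hc.mul_pow] at h1
  have e : ∀ x : Gen, gen x ^ 3 = gen x := fun x => by rw [pow_succ, pow_two, gen_sq, one_mul]
  rw [e, e] at h1
  exact (eq_inv_of_mul_eq_one_left h1).trans (inv_eq_of_mul_eq_one_left (gen_sq y))

theorem tri_one : Tri3 (gen .l) (gen .a) (gen .e) :=
  ⟨gen_mem_L _, gen_mem_L _, gen_mem_L _, gen_commute (by decide), gen_commute (by decide),
    gen_commute (by decide), ne_gen (by decide), ne_gen (by decide), ne_gen (by decide)⟩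

theorem tri_two : Tri3 (gen .k) (gen .b) (gen .e) :=
  ⟨gen_mem_L _, gen_mem_L _, gen_mem_L _, gen_commute (by decide), gen_commute (by decide),
    gen_commute (by decide), ne_gen (by decide), ne_gen (by decide), ne_gen (by decide)⟩

/-- **The class of 3-transpositions of `Fi24` is unique.** -/
theorem class_unique {D' : Set Fi24} (h : IsThreeTranspositionClass D') : D' = L := by
  obtain ⟨⟨h2, h3⟩, ⟨t, ht, hD⟩, hcl⟩ := h
  have htt : t * t = 1 := by
    have := pow_orderOf_eq_one t
    rwa [h2 t ht, pow_two] at this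
  have htn : t ∉ commutator Fi24 := by
    intro hc
    have h4 : Subgroup.closure D' ≤ commutator Fi24 := by
      rw [Subgroup.closure_le, hD]
      intro x hx
      obtain ⟨c, rfl⟩ := isConj_iff.1 (show IsConj t x from hx)
      exact (inferInstance : (commutator Fi24).Normal).conj_mem t hc c
    rw [hcl, top_le_iff] at h4
    have h5 := index_commutator
    rw [h4, Subgroup.index_top] at h5
    norm_num at h5
  rcases outer_cases htn htt with hL | ⟨a, b, c, habc, rfl⟩
  · rw [hD]
    have hL' : IsConj (gen .l) t := hL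
    ext x
    constructor
    · intro hx
      exact IsConj.trans hL' hx
    · intro hx
      exact IsConj.trans hL'.symm hx
  · exfalso
    have m : ∀ {x y z : Fi24}, Tri3 x y z → x * y * z ∈ D' := by
      intro x y z hxyz
      obtain ⟨g, hg⟩ := habc.exists_conj hxyz
      rw [hD]
      exact isConj_iff.2 ⟨g, hg⟩
    have h4 := h3 _ (m tri_one) _ (m tri_two)
    have e1 : gen .l * gen .a * gen .e * (gen .k * gen .b * gen .e) = gen .l * gen .a * (gen .k * gen .b) := by
      have c1 : Commute (gen .e) (gen .k * gen .b) :=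
        (gen_commute (x := .e) (y := .k) (by decide)).mul_right (gen_commute (x := .e) (y := .b) (by decide))
      calc gen .l * gen .a * gen .e * (gen .k * gen .b * gen .e)
          = gen .l * gen .a * (gen .e * (gen .k * gen .b)) * gen .e := by group
        _ = gen .l * gen .a * ((gen .k * gen .b) * gen .e) * gen .e := by rw [c1.eq]
        _ = gen .l * gen .a * (gen .k * gen .b) * (gen .e * gen .e) := by group
        _ = gen .l * gen .a * (gen .k * gen .b) := by rw [gen_sq, mul_one]
    rw [e1] at h4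
    exact path_not TetFi24A.tr (gen_mem_L .l) (gen_mem_L .k) (gen_mem_L .a) (gen_mem_L .b)
      (gen_not_commute (by decide) (by decide)) (gen_not_commute (by decide) (by decide))
      (gen_not_commute (by decide) (by decide)) (gen_commute (by decide)) (gen_commute (by decide))
      (gen_commute (by decide)) h4

end Cfsg.Agent.H833.Out24
end
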