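import Mathlib
import Cfsg.Agent.H833.F22Cnt
import Cfsg.Agent.H833.ActSolv
import Cfsg.Agent.LThreeFi22.Inst
import Cfsg.Agent.CTwoTab.Fi22
import Cfsg.Agent.FastGrp
import Cfsg.Agent.Prune
set_option linter.all false
prune_inst 0x7f00000000000000000000000000000000000000000000000000000000000000000000000000000000000000000000000000000000000000000000000000000000000000000000000000000000000000003fffffffffffffffffffffffffffbeffbdffffffff
open scoped Cfsg.Agent.FastGrp

/-!
# A hexad of commuting transpositions of `Fi22` (helper833)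

The six commuting transpositions `hx i` with product one; an automorphism permuting the first three cyclically permutes
the six; with an element of order five normalising the hexad it generates a non-solvable group.
-/

set_option autoImplicit false

namespace Cfsg.Agent.H833.F22Hex

open Cfsg Subgroup Cfsg.Agent.Fischer Cfsg.Agent.Fischer.Abstract Cfsg.Agent.Fischer.Centralizer
  Cfsg.Agent.Fischer.Group22 Cfsg.Agent.Fischer.Rank22
open Cfsg.Agent.R01.Fi22Facts
open Cfsg.Agent.R01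
open Cfsg.Agent.LThreeFi22.Five (el el_append one_of_chk comm_of_chk ncomm_of_chk)
open Cfsg.Agent.R01.FiFusion (Tri)

/-- it is enough to test the points of the generators (helper21) -/
private theorem one_of_base {w : List Data22.Gen} (h : Cert.allList [0, 2, 2817, 2819, 2827, 2854, 2922, 2830, 2863, 2924]
    (fun x => Nat.beq (Cert.walk Data22.nx w.reverse x) x) = true) : el w = 1 := by
  have h1 : ∀ s, el w • pg s = pg s := fun s => Fin.ext ((Cfsg.Agent.R01.Fi22Loc.val_word w _).trans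
    (Nat.eq_of_beq_eq_true (Cert.allList_spec h _ (by cases s <;> decide))))
  generalize el w = z at h1
  have h2 : ∀ m : G, z * m = m * z := g_induction (by rw [mul_one, one_mul]) fun s m ih => by
    have h3 := t_smul z (pg s)
    rw [h1, t_pg] at h3
    rw [← mul_assoc, ← eq_mul_inv_iff_mul_eq.1 h3, mul_assoc, ih, mul_assoc]
  refine Subtype.ext (Equiv.ext fun x => ?_)
  obtain ⟨m, rfl⟩ := Rank22.trans x
  show z • m • x0 = m • x0
  rw [← mul_smul, h2, mul_smul]
  exact congrArg (fun y => m • y) (h1 .a)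

/-- the numbers of the points of the hexad -/
def num6 : Fin 6 → ℕ := ![0, 2817, 2827, 2922, 3485, 3490]

theorem num6_lt (i : Fin 6) : num6 i < 3510 := by revert i; decide

/-- the points of the hexad -/
def px (i : Fin 6) : X := pt (num6 i) (num6_lt i)

/-- the transpositions of the hexad -/
noncomputable def hx (i : Fin 6) : Spor.Fi22 := E (R.t (px i))

theorem hx_mem (i : Fin 6) : hx i ∈ T := mem_T_iff.2 ⟨_, rfl⟩

theorem num6_inj : Function.Injective num6 := by
  intro i j
  revert i j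
  decide

theorem px_inj : Function.Injective px := by
  intro i j h
  exact num6_inj (congrArg (fun x : X => (x : ℕ)) h)

theorem hx_inj : Function.Injective hx := fun _ _ h => px_inj (R.t_injective (E.injective h))

/-- the words of the hexad -/
def wd : Fin 6 → List Data22.Gen := ![[.a], [.c], [.e], [.g],
  [.d, .h, .i, .l, .c, .d, .h, .i, .f, .e, .d, .h, .g, .f, .e, .d, .c, .d, .e, .f, .g, .h, .d, .e, .f, .i, .h, .d, .c, .l, .i, .h, .d],
  [.d, .h, .i, .l, .e, .d, .h, .i, .f, .e, .d, .h, .g, .f, .e, .d, .c, .d, .e, .f, .g, .h, .d, .e, .f, .i, .h, .d, .e, .l, .i, .h, .d]]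

/-- the conjugating words -/
def wu : Fin 6 → List Data22.Gen := ![[], [], [], [], [.d, .h, .i, .l, .c, .d, .h, .i, .f, .e, .d, .h, .g, .f, .e, .d],
  [.d, .h, .i, .l, .e, .d, .h, .i, .f, .e, .d, .h, .g, .f, .e, .d]]

/-- the conjugated generators -/
def wg : Fin 6 → Data22.Gen := ![.a, .c, .e, .g, .c, .c]

theorem ptw_wu (i : Fin 6) : ptw (wu i, wg i) = px i := by
  apply Fin.ext
  rw [val_ptw]
  have key : ∀ i, Nat.beq (num (wu i, wg i)) (num6 i) = true := by decide +kernel
  exact Nat.eq_of_beq_eq_true (key i)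

theorem el_wd (i : Fin 6) : el (wd i) = R.t (px i) := by
  rw [← ptw_wu, t_ptw]
  have key : ∀ i, wd i = word (wu i, wg i) := by decide
  rw [key i]
  rfl

theorem comm_px : ∀ i j : Fin 6, R.t (px i) * R.t (px j) = R.t (px j) * R.t (px i) := by
  intro i j
  rw [← el_wd i]
  apply comm_of_chk
  revert i j
  decide +kernel

theorem hx_comm (i j : Fin 6) : hx i * hx j = hx j * hx i := by
  rw [hx, hx, ← map_mul, ← map_mul, comm_px]

/-- the product of all six is one -/
theorem prod_px : R.t (px 0) * R.t (px 1) * R.t (px 2) * (R.t (px 3) * R.t (px 4) * R.t (px 5)) = 1 := by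
  have h := one_of_base (w := wd 0 ++ wd 1 ++ wd 2 ++ (wd 3 ++ wd 4 ++ wd 5)) (by decide +kernel)
  simpa only [el_append, el_wd] using h

theorem hx_sq (i : Fin 6) : hx i * hx i = 1 := by
  rw [hx, ← map_mul, R.sq', map_one]

/-- the product of the first three is the product of the last three -/
theorem prod_hx : hx 0 * hx 1 * hx 2 = hx 3 * hx 4 * hx 5 := by
  have h : hx 0 * hx 1 * hx 2 * (hx 3 * hx 4 * hx 5) = 1 := by
    simp only [hx, ← map_mul]
    rw [prod_px, map_one]
  have h3 : (hx 3 * hx 4 * hx 5) * (hx 3 * hx 4 * hx 5) = 1 := by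
    calc (hx 3 * hx 4 * hx 5) * (hx 3 * hx 4 * hx 5) = hx 3 * hx 4 * (hx 5 * hx 3) * hx 4 * hx 5 := by group
      _ = hx 3 * (hx 4 * hx 3) * (hx 5 * hx 4) * hx 5 := by rw [hx_comm 5 3]; group
      _ = (hx 3 * hx 3) * (hx 4 * hx 4) * (hx 5 * hx 5) := by rw [hx_comm 4 3, hx_comm 5 4]; group
      _ = 1 := by rw [hx_sq, hx_sq, hx_sq]; group
  calc hx 0 * hx 1 * hx 2 = hx 0 * hx 1 * hx 2 * ((hx 3 * hx 4 * hx 5) * (hx 3 * hx 4 * hx 5)) := by rw [h3, mul_one]
    _ = (hx 0 * hx 1 * hx 2 * (hx 3 * hx 4 * hx 5)) * (hx 3 * hx 4 * hx 5) := by rw [mul_assoc (hx 0 * hx 1 * hx 2)]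
    _ = hx 3 * hx 4 * hx 5 := by rw [h, one_mul]

theorem tri1 : Tri T (hx 0) (hx 1) (hx 2) where
  mx := hx_mem _
  my := hx_mem _
  mw := hx_mem _
  xy := fun h => absurd (hx_inj h) (by decide)
  xw := fun h => absurd (hx_inj h) (by decide)
  yw := fun h => absurd (hx_inj h) (by decide)
  cxy := hx_comm _ _
  cxw := hx_comm _ _
  cyw := hx_comm _ _

theorem tri2 : Tri T (hx 3) (hx 4) (hx 5) where
  mx := hx_mem _
  my := hx_mem _
  mw := hx_mem _
  xy := fun h => absurd (hx_inj h) (by decide)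
  xw := fun h => absurd (hx_inj h) (by decide)
  yw := fun h => absurd (hx_inj h) (by decide)
  cxy := hx_comm _ _
  cxw := hx_comm _ _
  cyw := hx_comm _ _

/-- A transposition commuting with `w` commutes with the hexad. -/
theorem comm_hx {t : Spor.Fi22} (ht : t ∈ T) (h : t * (hx 0 * hx 1 * hx 2) = hx 0 * hx 1 * hx 2 * t) (i : Fin 6) :
    t * hx i = hx i * t := by
  have hfin : Finite Spor.Fi22 := CTwoTab.Fi22.finite
  have h1 := OddHalf.D4.Spor.Fi22.comm_tri StdFi22.MainFi22.bas tri1 ht h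
  have h2 : t * (hx 3 * hx 4 * hx 5) = hx 3 * hx 4 * hx 5 * t := by rw [← prod_hx]; exact h
  have h3 := OddHalf.D4.Spor.Fi22.comm_tri StdFi22.MainFi22.bas tri2 ht h2
  fin_cases i
  · exact h1.1
  · exact h1.2.1
  · exact h1.2.2
  · exact h3.1
  · exact h3.2.1
  · exact h3.2.2

/-! ### The sieve -/

/-- the point is fixed by the generators a, c, e, g, h, i, l -/
noncomputable def inner (y : ℕ) : Bool :=
  Cert.bite (Nat.beq y (nat_lit 0)) true (Cert.bite (Nat.beq y (nat_lit 2817)) true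
    (Cert.bite (Nat.beq y (nat_lit 2827)) true (Cert.bite (Nat.beq y (nat_lit 2922)) true
    (Cert.bite (Nat.beq y (nat_lit 3485)) true (Nat.beq y (nat_lit 3490))))))

noncomputable def hexCheck (y : ℕ) : Bool :=
  Cert.bite (Nat.beq (Data22.nx .a y) y) (Cert.bite (Nat.beq (Data22.nx .c y) y) (Cert.bite (Nat.beq (Data22.nx .e y) y)
    (Cert.bite (Nat.beq (Data22.nx .g y) y) (Cert.bite (Nat.beq (Data22.nx .h y) y) (Cert.bite (Nat.beq (Data22.nx .i y) y)
    (Cert.bite (Nat.beq (Data22.nx .l y) y) (inner y) true) true) true) true) true) true) true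

theorem hexCheck_ok : Cert.allGrid (nat_lit 54) (nat_lit 65) hexCheck = true := by
  decide +kernel

/-- the generators commuting with `w` -/
def gs : List Data22.Gen := [.a, .c, .e, .g, .h, .i, .l]

theorem mem_hex {x : X} (h : ∀ s ∈ gs, el [s] * R.t x = R.t x * el [s]) : ∃ i, x = px i := by
  have hlt : (x : ℕ) < 54 * 65 := x.2
  have h1 := Cert.allGrid_spec hexCheck_ok x hlt
  have h2 : ∀ s ∈ gs, Nat.beq (Data22.nx s x) x = true := by
    intro s hs
    cases hb : Nat.beq (Data22.nx s x) x with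
    | true => rfl
    | false => exact absurd (h s hs) (ncomm_of_chk (w := [s]) hb)
  unfold hexCheck at h1
  rw [h2 .a (by decide), h2 .c (by decide), h2 .e (by decide), h2 .g (by decide), h2 .h (by decide), h2 .i (by decide),
    h2 .l (by decide)] at h1
  have h3 : inner x = true := h1
  unfold inner at h3
  have key : ∀ i : Fin 6, Nat.beq x (num6 i) = true → ∃ i, x = px i := by
    intro i hi
    exact ⟨i, Fin.ext (Nat.eq_of_beq_eq_true hi)⟩
  cases h0 : Nat.beq x (nat_lit 0) with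
  | true => exact key 0 h0
  | false =>
    rw [h0] at h3
    cases h4 : Nat.beq x (nat_lit 2817) with
    | true => exact key 1 h4
    | false =>
      rw [h4] at h3
      cases h5 : Nat.beq x (nat_lit 2827) with
      | true => exact key 2 h5
      | false =>
        rw [h5] at h3
        cases h6 : Nat.beq x (nat_lit 2922) with
        | true => exact key 3 h6
        | false =>
          rw [h6] at h3
          cases h7 : Nat.beq x (nat_lit 3485) with
          | true => exact key 4 h7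
          | false =>
            rw [h7] at h3
            exact key 5 h3

theorem gs_comm : ∀ s ∈ gs, ∀ i : Fin 6, i ∈ ({0, 1, 2} : Finset (Fin 6)) → el [s] * R.t (px i) = R.t (px i) * el [s] := by
  have key : ∀ s ∈ gs, ∀ i : Fin 6, i ∈ ({0, 1, 2} : Finset (Fin 6)) →
      Nat.beq (Cert.walk Data22.nx [s].reverse (px i)) (px i) = true := by decide +kernel
  exact fun s hs i hi => comm_of_chk (key s hs i hi)

theorem el_one (s : Data22.Gen) : el [s] = R.t (pg s) := by
  rw [el, List.map_cons, List.map_nil, List.prod_singleton]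
  exact (t_pg _).symm

/-- the generators of `gs` commute with `w` -/
theorem gs_w {s : Data22.Gen} (hs : s ∈ gs) :
    E (el [s]) ∈ T ∧ E (el [s]) * (hx 0 * hx 1 * hx 2) = hx 0 * hx 1 * hx 2 * E (el [s]) := by
  refine ⟨mem_T_iff.2 ⟨pg s, by rw [el_one]⟩, ?_⟩
  have h : ∀ i : Fin 6, i ∈ ({0, 1, 2} : Finset (Fin 6)) → E (el [s]) * hx i = hx i * E (el [s]) := by
    intro i hi
    rw [hx, ← map_mul, ← map_mul, gs_comm s hs i hi]
  have h0 := h 0 (by decide)
  have h1 := h 1 (by decide)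
  have h2 := h 2 (by decide)
  calc E (el [s]) * (hx 0 * hx 1 * hx 2) = (E (el [s]) * hx 0) * hx 1 * hx 2 := by group
    _ = hx 0 * (E (el [s]) * hx 1) * hx 2 := by rw [h0]; group
    _ = hx 0 * hx 1 * (E (el [s]) * hx 2) := by rw [h1]; group
    _ = hx 0 * hx 1 * hx 2 * E (el [s]) := by rw [h2]; group

/-- **The hexad is determined by `w`.** -/
theorem mem_hex' {c : Spor.Fi22} (hc : c ∈ T)
    (h : ∀ t ∈ T, t * (hx 0 * hx 1 * hx 2) = hx 0 * hx 1 * hx 2 * t → t * c = c * t) : ∃ i, c = hx i := by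
  obtain ⟨x, rfl⟩ := mem_T_iff.1 hc
  obtain ⟨i, rfl⟩ := mem_hex (x := x) (fun s hs => by
    obtain ⟨h1, h2⟩ := gs_w hs
    have h3 := h _ h1 h2
    rw [← map_mul, ← map_mul] at h3
    exact E.injective h3)
  exact ⟨i, rfl⟩

/-- the two possible permutations -/
def sg1 : Equiv.Perm (Fin 6) where
  toFun := ![1, 2, 0, 4, 5, 3]
  invFun := ![2, 0, 1, 5, 3, 4]
  left_inv := by decide
  right_inv := by decide

def sg2 : Equiv.Perm (Fin 6) where
  toFun := ![1, 2, 0, 5, 3, 4]
  invFun := ![2, 0, 1, 4, 5, 3]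
  left_inv := by decide
  right_inv := by decide

/-- **An automorphism permuting the first three transpositions cyclically, with cube one and without fixed transposition.** -/
theorem perm_of {x : MulAut Spor.Fi22} (hT : ∀ t, x t ∈ T ↔ t ∈ T) (h01 : x (hx 0) = hx 1) (h12 : x (hx 1) = hx 2)
    (h20 : x (hx 2) = hx 0) (h3 : ∀ t, x (x (x t)) = t) (hfix : ∀ t ∈ T, x t ≠ t) :
    (∀ i, x (hx i) = hx (sg1 i)) ∨ (∀ i, x (hx i) = hx (sg2 i)) := by
  set w := hx 0 * hx 1 * hx 2 with hw
  have hxw : x w = w := by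
    rw [hw, map_mul, map_mul, h01, h12, h20]
    calc hx 1 * hx 2 * hx 0 = hx 1 * (hx 2 * hx 0) := by group
      _ = (hx 1 * hx 0) * hx 2 := by rw [hx_comm 2 0]; group
      _ = hx 0 * hx 1 * hx 2 := by rw [hx_comm 1 0]
  have hex : ∀ i, ∃ j, x (hx i) = hx j := by
    intro i
    refine mem_hex' ((hT _).2 (hx_mem i)) fun t ht htw => ?_
    obtain ⟨t', rfl⟩ := x.surjective t
    have ht' : t' ∈ T := (hT _).1 ht
    have h4 : t' * w = w * t' := by
      apply x.injective
      rw [map_mul x t' w, map_mul x w t', hxw]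
      exact htw
    rw [← map_mul, ← map_mul, comm_hx ht' h4 i]
  choose π hπ using hex
  have hinj : ∀ i j, π i = π j → i = j := by
    intro i j h
    apply hx_inj
    apply x.injective
    rw [hπ, hπ, h]
  have hne : ∀ i, π i ≠ i := by
    intro i h
    apply hfix _ (hx_mem i)
    rw [hπ, h]
  have hcu : ∀ i, π (π (π i)) = i := by
    intro i
    apply hx_inj
    rw [← hπ, ← hπ, ← hπ, h3]
  have e0 : π 0 = 1 := hx_inj (by rw [← hπ, h01])
  have e1 : π 1 = 2 := hx_inj (by rw [← hπ, h12])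
  have e2 : π 2 = 0 := hx_inj (by rw [← hπ, h20])
  have key : ∀ a b c : Fin 6, a ≠ 0 → a ≠ 1 → a ≠ 2 → b ≠ 0 → b ≠ 1 → b ≠ 2 → c ≠ 0 → c ≠ 1 → c ≠ 2 → a ≠ 3 → b ≠ 4 → c ≠ 5 →
      a ≠ b → a ≠ c → b ≠ c → (a = 4 ∧ b = 5 ∧ c = 3) ∨ (a = 5 ∧ b = 3 ∧ c = 4) := by decide
  have q : ∀ i j : Fin 6, i ≠ j → π i ≠ π j := fun i j hij h => hij (hinj i j h)
  have r : ∀ i : Fin 6, i ≠ 0 → i ≠ 1 → i ≠ 2 → π i ≠ 0 ∧ π i ≠ 1 ∧ π i ≠ 2 := by
    intro i i0 i1 i2
    refine ⟨fun h => ?_, fun h => ?_, fun h => ?_⟩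
    · exact i2 (hinj i 2 (by rw [h, e2]))
    · exact i0 (hinj i 0 (by rw [h, e0]))
    · exact i1 (hinj i 1 (by rw [h, e1]))
  obtain ⟨r3, r3', r3''⟩ := r 3 (by decide) (by decide) (by decide)
  obtain ⟨r4, r4', r4''⟩ := r 4 (by decide) (by decide) (by decide)
  obtain ⟨r5, r5', r5''⟩ := r 5 (by decide) (by decide) (by decide)
  rcases key (π 3) (π 4) (π 5) r3 r3' r3'' r4 r4' r4'' r5 r5' r5'' (hne 3) (hne 4) (hne 5) (q 3 4 (by decide))
    (q 3 5 (by decide)) (q 4 5 (by decide)) with ⟨k3, k4, k5⟩ | ⟨k3, k4, k5⟩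
  · left
    intro i
    rw [hπ]
    fin_cases i
    · exact congrArg hx e0
    · exact congrArg hx e1
    · exact congrArg hx e2
    · exact congrArg hx k3
    · exact congrArg hx k4
    · exact congrArg hx k5
  · right
    intro i
    rw [hπ]
    fin_cases i
    · exact congrArg hx e0
    · exact congrArg hx e1
    · exact congrArg hx e2
    · exact congrArg hx k3
    · exact congrArg hx k4
    · exact congrArg hx k5

/-! ### Elements of order five -/

open Data22.Gen in
def y1 : List Data22.Gen := [b, d, f, g, l, f, i, h, d, l, i, h, l, b, c, d, h, i, f, l, e, f]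

open Data22.Gen in
def y2 : List Data22.Gen := [d, c, f, h, d, e, i, h, d, c, l, g, f, l, i, e, f, l, d, e, f, d]

theorem y1_five : el y1 ^ 5 = 1 := by
  have h := one_of_base (w := y1 ++ y1 ++ y1 ++ y1 ++ y1) (by decide +kernel)
  simp only [el_append] at h
  rw [← h]
  simp only [pow_succ, pow_zero, one_mul]

theorem y2_five : el y2 ^ 5 = 1 := by
  have h := one_of_base (w := y2 ++ y2 ++ y2 ++ y2 ++ y2) (by decide +kernel)
  simp only [el_append] at h
  rw [← h]
  simp only [pow_succ, pow_zero, one_mul]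

def ta1 : Equiv.Perm (Fin 6) where
  toFun := ![0, 3, 1, 4, 5, 2]
  invFun := ![0, 2, 5, 1, 3, 4]
  left_inv := by decide
  right_inv := by decide

def ta2 : Equiv.Perm (Fin 6) where
  toFun := ![0, 3, 1, 5, 2, 4]
  invFun := ![0, 2, 4, 1, 5, 3]
  left_inv := by decide
  right_inv := by decide

theorem act_y1 (i : Fin 6) : E (el y1) * hx i * (E (el y1))⁻¹ = hx (ta1 i) := by
  rw [hx, E_smul, hx]
  congr 2
  apply Fin.ext
  rw [el, Fi22Loc.val_word]
  have key : ∀ i, Nat.beq (Cert.walk Data22.nx y1.reverse (px i)) (px (ta1 i)) = true := by decide +kernel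
  exact Nat.eq_of_beq_eq_true (key i)

theorem act_y2 (i : Fin 6) : E (el y2) * hx i * (E (el y2))⁻¹ = hx (ta2 i) := by
  rw [hx, E_smul, hx]
  congr 2
  apply Fin.ext
  rw [el, Fi22Loc.val_word]
  have key : ∀ i, Nat.beq (Cert.walk Data22.nx y2.reverse (px i)) (px (ta2 i)) = true := by decide +kernel
  exact Nat.eq_of_beq_eq_true (key i)

/-! ### The groups of permutations -/

section perm

variable {p q : Equiv.Perm (Fin 6)}

theorem ns_A : ¬ Group.IsSolvable ↥(closure ({sg1, ta1} : Set (Equiv.Perm (Fin 6)))) := by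
  have hp : sg1 ∈ closure ({sg1, ta1} : Set (Equiv.Perm (Fin 6))) := subset_closure (by simp)
  have hq : ta1 ∈ closure ({sg1, ta1} : Set (Equiv.Perm (Fin 6))) := subset_closure (by simp)
  refine ActSolv.not_solvable_of_comm (by decide)
    ⟨ta1⁻¹, inv_mem hq, ta1⁻¹ * sg1⁻¹ * ta1 * ta1 * sg1,
      mul_mem (mul_mem (mul_mem (mul_mem (inv_mem hq) (inv_mem hp)) hq) hq) hp, by decide⟩
    ⟨sg1⁻¹ * ta1⁻¹, mul_mem (inv_mem hp) (inv_mem hq), sg1 * ta1, mul_mem hp hq, by decide⟩

theorem ns_B : ¬ Group.IsSolvable ↥(closure ({sg2, ta1} : Set (Equiv.Perm (Fin 6)))) := by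
  have hp : sg2 ∈ closure ({sg2, ta1} : Set (Equiv.Perm (Fin 6))) := subset_closure (by simp)
  have hq : ta1 ∈ closure ({sg2, ta1} : Set (Equiv.Perm (Fin 6))) := subset_closure (by simp)
  refine ActSolv.not_solvable_of_comm (by decide)
    ⟨sg2⁻¹, inv_mem hp, ta1 * sg2 * ta1⁻¹ * sg2 * ta1⁻¹ * ta1⁻¹,
      mul_mem (mul_mem (mul_mem (mul_mem (mul_mem hq hp) (inv_mem hq)) hp) (inv_mem hq)) (inv_mem hq), by decide⟩
    ⟨sg2 * ta1⁻¹ * sg2⁻¹, mul_mem (mul_mem hp (inv_mem hq)) (inv_mem hp), sg2⁻¹ * ta1 * ta1 * sg2⁻¹ * ta1⁻¹,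
      mul_mem (mul_mem (mul_mem (mul_mem (inv_mem hp) hq) hq) (inv_mem hp)) (inv_mem hq), by decide⟩

theorem ns_C : ¬ Group.IsSolvable ↥(closure ({ta1, ta2} : Set (Equiv.Perm (Fin 6)))) := by
  have hp : ta1 ∈ closure ({ta1, ta2} : Set (Equiv.Perm (Fin 6))) := subset_closure (by simp)
  have hq : ta2 ∈ closure ({ta1, ta2} : Set (Equiv.Perm (Fin 6))) := subset_closure (by simp)
  refine ActSolv.not_solvable_of_comm (by decide)
    ⟨ta2 * ta1⁻¹, mul_mem hq (inv_mem hp), ta2 * ta2, mul_mem hq hq, by decide⟩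
    ⟨ta1 * ta2⁻¹, mul_mem hp (inv_mem hq), ta1 * ta1, mul_mem hp hp, by decide⟩

end perm

end Cfsg.Agent.H833.F22Hex

private theorem dce_f4211fe238f7 : _root_.True := by
  try have : _root_.True := by simp only [_root_.Cfsg.Agent.H833.F22Hex.hx.eq_1]
  exact _root_.True.intro
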