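import Mathlib
import Cfsg.Agent.H821.SpB
import Cfsg.Agent.H833.F22Hex
import Cfsg.Agent.OddHalf.NI3.Ex.FiRow.Outer
import Cfsg.Agent.CpAutFiFive.Fi22
import Cfsg.Agent.H728.DghpFix
import Cfsg.Agent.H478.SporCore_m3
import Cfsg.Agent.Fischer.Fi22Sub3510
import Cfsg.Agent.FastGrp
import Cfsg.Agent.Prune
set_option linter.all false
prune_inst 0x7f00000000000000000000000000000000000000000000000000000000000000000000000000000000000000000000000000000000000000000000000000000000000000000000000000000000000000003fffffffffffffffffffffffffffbeffbdffffffff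
open scoped Cfsg.Agent.FastGrp

/-!
# The pair property `PE` for `Fi22` (helper833, task 757)
-/

set_option autoImplicit false

namespace Cfsg.Agent.H833.SpFi22

open Cfsg Subgroup Cfsg.Agent.H465.Red Cfsg.Agent.H459.Rad
open Cfsg.Agent.H833.F22Hex
open Cfsg.Agent.R01.Fi22Facts (T E)

universe u

theorem kt : OddHalf.D8.Fi22.KTrans Spor.Fi22 T := OddHalf.D8.Fi22.kTrans0

instance : Finite Spor.Fi22 := R01.Fi22Facts.finite

/-- A radical automorphism fixing a transposition centralises its centralizer. -/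
theorem fix_cent {x : MulAut Spor.Fi22} (h : RC x) {t : Spor.Fi22} (ht : t ∈ T) (hxt : x t = t) {c : Spor.Fi22}
    (hc : c * t = t * c) : x c = c := by
  obtain ⟨b, hb, hbt, -, hcb, -⟩ := kt.nb t ht t ht
  obtain ⟨R, F⟩ := CTwoTab.Fi22.facts ht hb hbt.symm hcb.symm
  refine h.eq_of_quasisimple (M := centralizer ({t} : Set Spor.Fi22)) ?_ ?_ F.quasi (mem_centralizer_singleton_iff.2 hc)
  · intro htop
    obtain ⟨u, hu, hut⟩ : ∃ u ∈ T, t * u ≠ u * t := by
      have hfar := F22Cnt.ctx.far ht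
      have hne : {e | e ∈ F22Cnt.T ∧ t * e ≠ e * t}.Nonempty := by
        rw [← Set.ncard_pos (Set.toFinite _)]
        omega
      exact hne
    have h1 : u ∈ centralizer ({t} : Set Spor.Fi22) := by rw [htop]; exact mem_top _
    exact hut (mem_centralizer_singleton_iff.1 h1).symm
  · intro m hm
    rw [mem_centralizer_singleton_iff] at hm ⊢
    calc x m * t = x m * x t := by rw [hxt]
      _ = x (m * t) := (map_mul _ _ _).symm
      _ = x (t * m) := by rw [hm]
      _ = t * x m := by rw [map_mul, hxt]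

/-- **A radical automorphism fixing a transposition is trivial.** -/
theorem eq_one {x : MulAut Spor.Fi22} (h : RC x) {t : Spor.Fi22} (ht : t ∈ T) (hxt : x t = t) : x = 1 := by
  have h1 : ∀ u ∈ T, x u = u := by
    intro u hu
    obtain ⟨c, hc, -, -, hct, hcu⟩ := kt.nb t ht u hu
    exact fix_cent h hc (fix_cent h ht hxt hct) hcu.symm
  have h2 : (⊤ : Subgroup Spor.Fi22) ≤ MonoidHom.eqLocus x.toMonoidHom (MonoidHom.id _) := by
    rw [← kt.gen, closure_le]
    exact h1
  ext y
  exact h2 (mem_top y)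

/-! ### Order three -/

theorem five_of {y : Spor.Fi22} (h : y ^ 5 = 1) (h1 : y ≠ 1) : OddPow y :=
  ⟨5, 1, by norm_num, by norm_num, by
    have : Fact (Nat.Prime 5) := ⟨by norm_num⟩
    rw [pow_one]
    exact orderOf_eq_prime h h1⟩

theorem E_five : E (LThreeFi22.Five.el y1) ^ 5 = 1 := by rw [← map_pow, y1_five, map_one]

theorem E_ne : E (LThreeFi22.Five.el y1) ≠ 1 := by
  intro h
  have h1 := act_y1 1
  rw [h, one_mul, inv_one, mul_one] at h1
  exact absurd (hx_inj h1) (by decide)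

theorem case_three {x : MulAut Spor.Fi22} (hx3 : x ^ 3 = 1) (hfix : ∀ t ∈ T, x t ≠ t) :
    ∃ y : Spor.Fi22, OddPow y ∧ ¬ Group.IsSolvable (closure ({x, MulAut.conj y} : Set (MulAut Spor.Fi22))) := by
  have h3 : ∀ t, x (x (x t)) = t := by
    intro t
    rw [← MulAut.mul_apply, ← MulAut.mul_apply, ← pow_two, ← pow_succ, hx3, MulAut.one_apply]
  have hT : ∀ t ∈ T, x t ∈ T := fun t ht => kt.aut x t ht
  obtain ⟨t, ht, hc⟩ := F22Cnt.exists_comm hT h3
  set t1 := x t with ht1
  set t2 := x t1 with ht2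
  have hx2 : x t2 = t := h3 t
  have c12 : t1 * t2 = t2 * t1 := by
    have := congrArg x hc
    rwa [map_mul, map_mul] at this
  have c20 : t2 * t = t * t2 := by
    have := congrArg x c12
    rwa [map_mul, map_mul, hx2] at this
  have n01 : t ≠ t1 := fun h => hfix t ht h.symm
  have n12 : t1 ≠ t2 := fun h => hfix t1 (hT t ht) h.symm
  have n02 : t ≠ t2 := by
    intro h
    apply n01
    rw [← hx2, ← h]
  obtain ⟨g, g0, g1, g2⟩ := kt.trans3 t ht t1 (hT t ht) t2 (hT _ (hT t ht)) (hx 0) (hx_mem 0) (hx 1) (hx_mem 1) (hx 2)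
    (hx_mem 2) n01 n02 n12 (fun h => absurd (hx_inj h) (by decide)) (fun h => absurd (hx_inj h) (by decide))
    (fun h => absurd (hx_inj h) (by decide)) hc c20.symm c12 (hx_comm _ _) (hx_comm _ _) (hx_comm _ _)
  set x' : MulAut Spor.Fi22 := MulAut.conj g * x * (MulAut.conj g)⁻¹ with hx'
  have hx'a : ∀ s, x' s = g * x (g⁻¹ * s * g) * g⁻¹ := by
    intro s
    rw [hx', MulAut.mul_apply, MulAut.mul_apply, MulAut.conj_apply, MulAut.conj_inv_apply]
  have ga : ∀ {s r : Spor.Fi22}, g * s * g⁻¹ = r → g⁻¹ * r * g = s := by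
    intro s r h
    rw [← h]; group
  have e0 : x' (hx 0) = hx 1 := by rw [hx'a, ga g0, g1]
  have e1 : x' (hx 1) = hx 2 := by rw [hx'a, ga g1, g2]
  have e2 : x' (hx 2) = hx 0 := by rw [hx'a, ga g2, hx2, g0]
  have hx'3 : ∀ s, x' (x' (x' s)) = s := by
    intro s
    have : x' ^ 3 = 1 := by
      rw [hx', conj_pow, hx3, mul_one, mul_inv_cancel]
    rw [← MulAut.mul_apply, ← MulAut.mul_apply, ← pow_two, ← pow_succ, this, MulAut.one_apply]
  have hx'fix : ∀ s ∈ T, x' s ≠ s := by
    intro s hs h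
    rw [hx'a] at h
    apply hfix (g⁻¹ * s * g)
    · have := kt.conj g⁻¹ s hs
      rwa [inv_inv] at this
    · exact (ga h).symm
  have hx'T : ∀ s, x' s ∈ T ↔ s ∈ T := by
    intro s
    constructor
    · intro h
      have h4 := kt.aut x' _ (kt.aut x' _ h)
      have h5 : x' (x' (x' s)) = s := hx'3 s
      rwa [h5] at h4
    · exact fun h => kt.aut x' s h
  have hns : ¬ Group.IsSolvable (closure ({x', MulAut.conj (E (LThreeFi22.Five.el y1))} : Set (MulAut Spor.Fi22))) := by
    rcases perm_of hx'T e0 e1 e2 hx'3 hx'fix with h | h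
    · exact ActSolv.not_solvable_of_act hx_inj h act_y1 ns_A
    · exact ActSolv.not_solvable_of_act hx_inj h act_y1 ns_B
  refine ⟨g⁻¹ * E (LThreeFi22.Five.el y1) * g, five_of ?_ ?_, fun hs => hns ?_⟩
  · have h4 : (g⁻¹ * E (LThreeFi22.Five.el y1) * g) ^ 5 = g⁻¹ * E (LThreeFi22.Five.el y1) ^ 5 * g := by
      have := conj_pow (i := 5) (a := g⁻¹) (b := E (LThreeFi22.Five.el y1))
      rwa [inv_inv] at this
    rw [h4, E_five, mul_one, inv_mul_cancel]
  · intro h
    apply E_ne
    have h4 : E (LThreeFi22.Five.el y1) = g * (g⁻¹ * E (LThreeFi22.Five.el y1) * g) * g⁻¹ := by group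
    rw [h4, h, mul_one, mul_inv_cancel]
  · have h4 : (closure ({x, MulAut.conj (g⁻¹ * E (LThreeFi22.Five.el y1) * g)} : Set (MulAut Spor.Fi22))).map
        (MulAut.conj (MulAut.conj g)).toMonoidHom = closure {x', MulAut.conj (E (LThreeFi22.Five.el y1))} := by
      rw [MonoidHom.map_closure, Set.image_pair]
      have h5 : (MulAut.conj (MulAut.conj g)).toMonoidHom (MulAut.conj (g⁻¹ * E (LThreeFi22.Five.el y1) * g)) =
          MulAut.conj (E (LThreeFi22.Five.el y1)) := by
        show MulAut.conj g * MulAut.conj (g⁻¹ * E (LThreeFi22.Five.el y1) * g) * (MulAut.conj g)⁻¹ = _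
        rw [map_mul, map_mul, map_inv]
        group
      rw [h5]
      rfl
    rw [← h4]
    exact Group.isSolvable_of_surjective (f := (MulAut.conj (MulAut.conj g)).toMonoidHom.subgroupMap _)
      ((MulAut.conj (MulAut.conj g)).toMonoidHom.subgroupMap_surjective _)

/-! ### Order at least five -/

open Cfsg.Agent.H728.DghpMat Cfsg.Agent.H728.DghpFix Cfsg.Agent.H728.DghpLem

theorem card : Nat.card Spor.Fi22 = 64561751654400 := R01.Fi22Facts.card

theorem nonAdj : NonAdj Spor.Fi22 13 11 := by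
  have hcard := card
  have hi := Fischer.Fi22Sub3510.main.1
  refine nonAdj_of_rank (H := Fischer.Fi22Sub3510.H) (a := 693) (b := 2816) (by norm_num) (by rw [hcard]; norm_num)
    (by rw [hi]) Fischer.Fi22Sub3510.ncard1 Fischer.Fi22Sub3510.ncard2 (by norm_num) (by norm_num) (by norm_num)
    (by norm_num) (by norm_num) ?_
  have h1 := Subgroup.card_mul_index Fischer.Fi22Sub3510.H
  rw [hi, hcard] at h1
  have h2 : Nat.card Fischer.Fi22Sub3510.H = 18393661440 :=
    Nat.eq_of_mul_eq_mul_right (by norm_num : 0 < 3510) (h1.trans (by norm_num))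
  rw [h2]
  norm_num

theorem not_solvable {x y : Spor.Fi22} (hx : orderOf x = 13) (hy : orderOf y = 11) :
    ¬ Group.IsSolvable ↥(closure ({x, y} : Set Spor.Fi22)) := by
  have hcard := card
  refine not_solvable_of_norm (r := 13) (s := 11) (a := 1) (b := 1) (by norm_num) (by norm_num) one_pos ?_ ?_ x y
    (by rw [hx, pow_one]) (by rw [hy, pow_one])
  · intro P hP y hy hn
    rw [pow_one] at hy
    have : Fact (Nat.Prime 13) := ⟨by norm_num⟩
    obtain ⟨k, hk, h1, h2⟩ := H478.SporCore.dvd_of_norm (by norm_num) (by norm_num) hP hy hn fun u hu hu1 h =>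
      nonAdj u y (orderOf_eq_prime (hP.2.2 u hu) hu1) hy h.symm
    have hk1 : k = 1 := by
      by_contra hne
      have h3 : 13 ^ 2 ∣ 64561751654400 := by
        rw [← hcard]
        exact (pow_dvd_pow 13 (by omega)).trans h1
      norm_num at h3
    rw [hk1] at h2
    norm_num at h2
  · intro P hP x hx hn
    rw [pow_one] at hx
    have : Fact (Nat.Prime 11) := ⟨by norm_num⟩
    obtain ⟨k, hk, h1, h2⟩ := H478.SporCore.dvd_of_norm (by norm_num) (by norm_num) hP hx hn fun u hu hu1 h =>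
      nonAdj x u hx (orderOf_eq_prime (hP.2.2 u hu) hu1) h
    have hk1 : k = 1 := by
      by_contra hne
      have h3 : 11 ^ 2 ∣ 64561751654400 := by
        rw [← hcard]
        exact (pow_dvd_pow 11 (by omega)).trans h1
      norm_num at h3
    rw [hk1] at h2
    norm_num at h2

/-- an inner automorphism of prime order at least five, not thirteen, fixes a transposition -/
theorem exists_fix {p : ℕ} (hp : p.Prime) (h : p = 5 ∨ p = 7 ∨ p = 11) {g : Spor.Fi22} (hg : orderOf g = p) :
    ∃ t ∈ T, g * t = t * g := by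
  have C := F22Cnt.ctx
  have hgp : g ^ p = 1 := by rw [← hg, pow_orderOf_eq_one]
  have hg1 : g ≠ 1 := by
    rintro rfl
    rw [orderOf_one] at hg
    exact hp.one_lt.ne hg
  rcases h with h5 | h7
  · rw [h5] at hgp
    exact C.ex5 g hgp hg1
  · have h1 := LThreeFi22.fix_modEq hp hgp (S := T) (fun s hs => C.conj s hs g)
    rw [C.ncard] at h1
    have hne : {s | s ∈ T ∧ g * s = s * g}.Nonempty := by
      rw [← Set.ncard_pos (Set.toFinite _)]
      rcases Nat.eq_zero_or_pos ({s | s ∈ T ∧ g * s = s * g}.ncard) with h2 | h2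
      · rw [h2] at h1
        rcases h7 with rfl | rfl
        · exact absurd h1 (by decide)
        · exact absurd h1 (by decide)
      · exact h2
    obtain ⟨t, ht, h3⟩ := hne
    exact ⟨t, ht, h3⟩

theorem center_eq_bot : center Spor.Fi22 = ⊥ := by
  rw [eq_bot_iff]
  intro z hz
  have C := F22Cnt.ctx
  rw [mem_bot]
  by_contra hz1
  obtain ⟨t, ht⟩ := kt.nonempty
  obtain ⟨b, hb, hbt, -, hcb, -⟩ := kt.nb t ht t ht
  obtain ⟨R, F⟩ := CTwoTab.Fi22.facts ht hb hbt.symm hcb.symm
  rcases F.cc z (fun y _ => (mem_center_iff.1 hz y).symm) with h | h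
  · exact hz1 h
  · have hfar := C.far ht
    have hne : {e | e ∈ F22Cnt.T ∧ t * e ≠ e * t}.Nonempty := by
      rw [← Set.ncard_pos (Set.toFinite _)]
      omega
    obtain ⟨u, hu, hut⟩ := hne
    rw [← h] at hut
    exact hut (mem_center_iff.1 hz u).symm

theorem case_thirteen {g : Spor.Fi22} (hg : orderOf g = 13) :
    ∃ y : Spor.Fi22, OddPow y ∧ ¬ Group.IsSolvable (closure ({MulAut.conj g, MulAut.conj y} : Set (MulAut Spor.Fi22))) := by
  have : Fact (Nat.Prime 11) := ⟨by norm_num⟩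
  obtain ⟨y, hy⟩ := exists_prime_orderOf_dvd_card' (G := Spor.Fi22) 11 (by rw [card]; norm_num)
  refine ⟨y, ⟨11, 1, by norm_num, by norm_num, by rw [hy, pow_one]⟩, fun hs => not_solvable hg hy ?_⟩
  exact solvable_of_conj center_eq_bot hs

/-! ### The pair of 5-elements -/

theorem E_five' : E (LThreeFi22.Five.el y2) ^ 5 = 1 := by rw [← map_pow, y2_five, map_one]

theorem pair : ∃ p : ℕ, p.Prime ∧ p ≠ 2 ∧ ∃ a b : Spor.Fi22, (∃ k, orderOf a = p ^ k) ∧ (∃ k, orderOf b = p ^ k) ∧
    ¬ Group.IsSolvable (closure ({a, b} : Set Spor.Fi22)) := by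
  have : Fact (Nat.Prime 5) := ⟨by norm_num⟩
  have key : ∀ y : Spor.Fi22, y ^ 5 = 1 → ∃ k, orderOf y = 5 ^ k := by
    intro y hy
    obtain ⟨k, -, hk⟩ := (Nat.dvd_prime_pow (i := orderOf y) (m := 1) (by norm_num : Nat.Prime 5)).1
      (by rw [pow_one]; exact orderOf_dvd_of_pow_eq_one hy)
    exact ⟨k, hk⟩
  exact ⟨5, by norm_num, by norm_num, _, _, key _ E_five, key _ E_five', ActSolv.not_solvable_of_conj hx_inj act_y1 act_y2 ns_C⟩

/-! ### The result -/

theorem aut {x : MulAut Spor.Fi22} (hp : (orderOf x).Prime) (hRC : RC x) :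
    ∃ y : Spor.Fi22, OddPow y ∧ ¬ Group.IsSolvable (closure ({x, MulAut.conj y} : Set (MulAut Spor.Fi22))) := by
  have hx1 : x ≠ 1 := by
    rintro rfl
    rw [orderOf_one] at hp
    exact Nat.not_prime_one hp
  have hfix : ∀ t ∈ T, x t ≠ t := fun t ht h => hx1 (eq_one hRC ht h)
  by_cases h2 : orderOf x = 2
  · exfalso
    obtain ⟨t, ht, h⟩ := OddHalf.NI3.Ex.FiRow.Base.exists_fixed (α := x) (by rw [← pow_two, ← h2, pow_orderOf_eq_one])
    exact hfix t ht h
  by_cases h3 : orderOf x = 3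
  · exact case_three (by rw [← h3, pow_orderOf_eq_one]) hfix
  obtain ⟨g, rfl⟩ := CpAutFiFive.Fi22.inner hp h2 x rfl
  have hg : orderOf (MulAut.conj g) = orderOf g := orderOf_injective MulAut.conj (conj_injective center_eq_bot) g
  rw [hg] at hp h2 h3
  have hd : orderOf g ∣ 64561751654400 := by
    rw [← card]
    exact orderOf_dvd_natCard g
  have h4 : orderOf g = 5 ∨ orderOf g = 7 ∨ orderOf g = 11 ∨ orderOf g = 13 := by
    have e : (64561751654400 : ℕ) = 2 ^ 17 * (3 ^ 9 * (5 ^ 2 * (7 * (11 * 13)))) := by norm_num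
    rw [e] at hd
    have step : ∀ {q k n : ℕ}, q.Prime → orderOf g ∣ q ^ k * n → orderOf g = q ∨ orderOf g ∣ n := by
      intro q k n hq h
      rcases (hp.dvd_mul).1 h with h5 | h5
      · exact Or.inl ((Nat.prime_dvd_prime_iff_eq hp hq).1 (hp.dvd_of_dvd_pow h5))
      · exact Or.inr h5
    rcases step Nat.prime_two hd with h5 | hd
    · exact absurd h5 h2
    rcases step Nat.prime_three hd with h5 | hd
    · exact absurd h5 h3
    rcases step Nat.prime_five hd with h5 | hd
    · exact Or.inl h5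
    rcases (hp.dvd_mul).1 hd with h5 | hd
    · exact Or.inr (Or.inl ((Nat.prime_dvd_prime_iff_eq hp (by norm_num)).1 h5))
    rcases (hp.dvd_mul).1 hd with h5 | hd
    · exact Or.inr (Or.inr (Or.inl ((Nat.prime_dvd_prime_iff_eq hp (by norm_num)).1 h5)))
    · exact Or.inr (Or.inr (Or.inr ((Nat.prime_dvd_prime_iff_eq hp (by norm_num)).1 hd)))
  by_cases h13 : orderOf g = 13
  · exact case_thirteen h13
  · exfalso
    obtain ⟨t, ht, h⟩ := exists_fix hp (by tauto) rfl
    apply hfix t ht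
    rw [MulAut.conj_apply, h, mul_inv_cancel_right]

/-- **`Fi22` has the pair property.** -/
theorem fi22 {G : Type u} [Group G] [Finite G] [IsSimpleGroup G] (hK : ¬ IsMulCommutative G) (h : Spor.IsoFi22 G)
    (IH : ∀ (L : Type u) [Group L] [Finite L] [IsSimpleGroup L], ¬ IsMulCommutative L → Nat.card L < Nat.card G →
      H465.Red.PE L) : H465.Red.PE G := by
  obtain ⟨e⟩ := h
  refine PE.of_RC hK IH ?_ ?_
  · intro x hp hRC
    obtain ⟨y, ⟨p, k, hp', hp2, hy⟩, hns⟩ := aut (x := H459.Rad.tr e x) (by rw [orderOf_tr]; exact hp) (hRC.tr e)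
    refine ⟨e.symm y, ⟨p, k, hp', hp2, by rw [MulEquiv.orderOf_eq, hy]⟩, fun hs => hns ?_⟩
    have h1 : (closure ({x, MulAut.conj (e.symm y)} : Set (MulAut G))).map (trE e).toMonoidHom =
        closure ({H459.Rad.tr e x, MulAut.conj y} : Set (MulAut Spor.Fi22)) := by
      rw [MonoidHom.map_closure, Set.image_pair]
      have e1 : (trE e).toMonoidHom (MulAut.conj (e.symm y)) = MulAut.conj y := by
        ext l
        show e (e.symm y * e.symm l * (e.symm y)⁻¹) = y * l * y⁻¹
        rw [map_mul, map_mul, map_inv, e.apply_symm_apply, e.apply_symm_apply]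
      rw [e1]
      rfl
    rw [← h1]
    exact Group.isSolvable_of_surjective (f := (trE e).toMonoidHom.subgroupMap _)
      ((trE e).toMonoidHom.subgroupMap_surjective _)
  · obtain ⟨p, hp, hp2, a, b, ⟨i, ha⟩, ⟨j, hb⟩, hns⟩ := pair
    refine ⟨p, hp, hp2, e.symm a, e.symm b, ⟨i, by rw [MulEquiv.orderOf_eq, ha]⟩, ⟨j, by rw [MulEquiv.orderOf_eq, hb]⟩,
      fun hs => hns ?_⟩
    have h1 : (closure ({e.symm a, e.symm b} : Set G)).map e.toMonoidHom = closure ({a, b} : Set Spor.Fi22) := by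
      rw [MonoidHom.map_closure, Set.image_pair]
      show closure {e (e.symm a), e (e.symm b)} = _
      rw [e.apply_symm_apply, e.apply_symm_apply]
    rw [← h1]
    exact Group.isSolvable_of_surjective (f := e.toMonoidHom.subgroupMap _) (e.toMonoidHom.subgroupMap_surjective _)

end Cfsg.Agent.H833.SpFi22
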